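import Groth.Agent.ModSiteFree.Basic
import Groth.Agent.PullFlat.Tensor
import Groth.Prelude.Def_CohCx
import Groth.Agent.CohQC.ToSheafExact
import Mathlib.CategoryTheory.Sites.EpiMono

/-!
Maps out of `freeOn`, covers, quasi-compactness and lifting.
-/

set_option backward.isDefEq.respectTransparency false
set_option backward.isDefEq.respectTransparency.types false
set_option linter.style.haveILetI false
set_option autoImplicit false
set_option maxHeartbeats 1000000

universe u

namespace Groth.Agent.FinPresOn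

open CategoryTheory Limits Opposite
open Groth.Agent.PullFlat (Loc sect_ext rep univ lift lift_app lift_univ rep_loc_surj rep_loc_inj)
open Groth.Agent.ModSiteFlat (rmap rmap_comp)

variable {C : Type u} [SmallCategory C] {J : GrothendieckTopology C} {O : Sheaf J CommRingCat.{u}}

/-- the section of a map out of `freeOn` -/
noncomputable def val {U : C} {M : ModSite.Mod O} (φ : ModSite.freeOn O U ⟶ M) : ModSite.sect M U :=
  (ModSiteFree.freeOnCorep O U).homEquiv φ

/-- the map out of `freeOn` of a section -/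
noncomputable def ofSec {U : C} {M : ModSite.Mod O} (s : ModSite.sect M U) : ModSite.freeOn O U ⟶ M :=
  (ModSiteFree.freeOnCorep O U).homEquiv.symm s

lemma val_ofSec {U : C} {M : ModSite.Mod O} (s : ModSite.sect M U) : val (ofSec s) = s :=
  (ModSiteFree.freeOnCorep O U).homEquiv.apply_symm_apply s

lemma ofSec_val {U : C} {M : ModSite.Mod O} (φ : ModSite.freeOn O U ⟶ M) : ofSec (val φ) = φ :=
  (ModSiteFree.freeOnCorep O U).homEquiv.symm_apply_apply φ

lemma val_comp {U : C} {M N : ModSite.Mod O} (φ : ModSite.freeOn O U ⟶ M) (g : M ⟶ N) :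
    val (φ ≫ g) = g.val.app (op U) (val φ) :=
  (ModSiteFree.freeOnCorep O U).homEquiv_comp g φ

lemma val_inj {U : C} {M : ModSite.Mod O} {φ ψ : ModSite.freeOn O U ⟶ M} (h : val φ = val ψ) : φ = ψ :=
  (ModSiteFree.freeOnCorep O U).homEquiv.injective h

lemma ofSec_comp {U : C} {M N : ModSite.Mod O} (s : ModSite.sect M U) (g : M ⟶ N) :
    ofSec s ≫ g = ofSec (g.val.app (op U) s) :=
  val_inj (by rw [val_comp, val_ofSec, val_ofSec])

variable (O) in
/-- functoriality of `freeOn` -/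
noncomputable def freeMap {V U : C} (g : V ⟶ U) : ModSite.freeOn O V ⟶ ModSite.freeOn O U :=
  ofSec (rmap (ModSite.freeOn O U) g (val (𝟙 _)))

lemma val_freeMap_comp {V U : C} (g : V ⟶ U) {M : ModSite.Mod O} (φ : ModSite.freeOn O U ⟶ M) :
    val (freeMap O g ≫ φ) = rmap M g (val φ) := by
  rw [val_comp, freeMap, val_ofSec]
  refine (PresheafOfModules.naturality_apply φ.val g.op _).trans (congrArg _ ?_)
  rw [← val_comp, Category.id_comp]

lemma freeMap_ofSec {V U : C} (g : V ⟶ U) {M : ModSite.Mod O} (s : ModSite.sect M U) :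
    freeMap O g ≫ ofSec s = ofSec (rmap M g s) :=
  val_inj (by rw [val_freeMap_comp, val_ofSec, val_ofSec])

/-- the free module on a family of objects -/
noncomputable abbrev Fr (O : Sheaf J CommRingCat.{u}) {ι : Type*} (V : ι → C) [HasCoproduct fun i => ModSite.freeOn O (V i)] :
    ModSite.Mod O :=
  ∐ fun i => ModSite.freeOn O (V i)

/-- the map of a covering family is an epimorphism -/
lemma epi_desc_freeMap {U : C} {ι : Type*} (V : ι → C) [HasCoproduct fun i => ModSite.freeOn O (V i)]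
    (g : ∀ i, V i ⟶ U) (hg : Sieve.ofArrows V g ∈ J U) : Epi (Sigma.desc fun i => freeMap O (g i)) := by
  rw [Preadditive.epi_iff_cancel_zero]
  intro M φ h
  refine val_inj (sect_ext ⟨_, hg, ?_⟩)
  intro W w hw
  obtain ⟨i, a, rfl⟩ := (Sieve.mem_ofArrows_iff ..).mp hw
  have h1 : freeMap O (g i) ≫ φ = 0 := by
    have := congrArg (Sigma.ι (fun i => ModSite.freeOn O (V i)) i ≫ ·) h
    simpa using this
  have h2 : ∀ ψ : ModSite.freeOn O U ⟶ M, rmap M (a ≫ g i) (val ψ) = rmap M a (val (freeMap O (g i) ≫ ψ)) := fun ψ => by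
    rw [val_freeMap_comp, rmap_comp]
  rw [h2, h2, h1, comp_zero]

/-- sections of a target of an epimorphism lift locally -/
lemma loc_lift_epi {P G : ModSite.Mod O} (p : P ⟶ G) [Epi p] {U : C} (s : ModSite.sect G U) :
    Loc J U fun W g => ∃ t : ModSite.sect P W, p.val.app (op W) t = rmap G g s := by
  haveI : Epi ((SheafOfModules.toSheaf (ModSite.ringSh O)).map p) := inferInstance
  haveI : Sheaf.IsLocallySurjective ((SheafOfModules.toSheaf (ModSite.ringSh O)).map p) :=
    (Sheaf.isLocallySurjective_iff_epi' _ _).2 inferInstance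
  refine (Loc.of_mem (Presheaf.imageSieve_mem J ((SheafOfModules.toSheaf (ModSite.ringSh O)).map p).hom (U := op U) s)).mono ?_
  rintro W g ⟨t, ht⟩
  exact ⟨t, ht⟩

/-- hypothesis: objects in `B` cover everything -/
def Covers (J : GrothendieckTopology C) (B : Set C) : Prop :=
  ∀ X : C, ∃ (κ : Type u) (Y : κ → C) (g : ∀ k, Y k ⟶ X), Sieve.ofArrows Y g ∈ J X ∧ ∀ k, Y k ∈ B

lemma loc_mem {B : Set C} (hB₁ : Covers J B) (U : C) : Loc J U fun W _ => ∃ W' ∈ B, Nonempty (W ⟶ W') := by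
  obtain ⟨κ, Y, g, hg, hY⟩ := hB₁ U
  refine ⟨_, hg, fun W w hw => ?_⟩
  obtain ⟨k, a, -⟩ := (Sieve.mem_ofArrows_iff ..).mp hw
  exact ⟨Y k, hY k, ⟨a⟩⟩

lemma exists_finite_refine {B : Set C} (hB₁ : Covers J B) {U : C}
    (hU : CohCx.IsQcObject ((presheafToSheaf J (Type u)).obj (yoneda.obj U)))
    {P : ∀ ⦃W : C⦄, (W ⟶ U) → Prop} (hP : Loc J U P) :
    ∃ (m : ℕ) (V : Fin m → C) (g : ∀ i, V i ⟶ U), Sieve.ofArrows V g ∈ J U ∧ (∀ i, V i ∈ B) ∧ ∀ i, P (g i) := by
  classical
  let I : Type u := {a : Σ W : C, (W ⟶ U) // a.1 ∈ B ∧ P a.2}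
  let f : ∀ a : I, rep J a.1.1 ⟶ rep J U := fun a => lift ((rep J U).obj.map a.1.2.op (univ J U))
  have hf : ∀ (a : I) {W : C} (l : W ⟶ a.1.1),
      (f a).hom.app (op W) ((rep J a.1.1).obj.map l.op (univ J a.1.1)) = (rep J U).obj.map (l ≫ a.1.2).op (univ J U) :=
    fun a W l => (lift_app _ l).trans ((rep J U).obj.map_comp_apply a.1.2.op l.op _).symm
  have hPB : Loc J U fun W g => ∃ (a : I) (l : W ⟶ a.1.1), l ≫ a.1.2 = g := by
    obtain ⟨S, hS, hS'⟩ := hP
    refine (Loc.of_mem hS).bind fun W g hg => ?_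
    obtain ⟨κ, Y, h, hh, hY⟩ := hB₁ W
    refine ⟨_, hh, fun Z z hz => ?_⟩
    obtain ⟨k, l, rfl⟩ := (Sieve.mem_ofArrows_iff ..).mp hz
    exact ⟨⟨⟨Y k, h k ≫ g⟩, hY k, hS' _ (S.downward_closed hg _)⟩, l, by simp⟩
  have hJS : CohCx.JointlySurjective f := fun W s => by
    have hs : Loc J W fun Z r => ∃ (a : I) (x : (rep J a.1.1).obj.obj (op Z)), (f a).hom.app (op Z) x = (rep J U).obj.map r.op s := by
      refine (rep_loc_surj s).bind ?_
      rintro Z r ⟨l, hl⟩
      obtain ⟨R, hR, hR'⟩ := hPB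
      refine (Loc.of_mem (J.pullback_stable l hR)).mono ?_
      intro T t ht
      obtain ⟨a, b, hb⟩ := hR' _ ht
      refine ⟨a, (rep J a.1.1).obj.map b.op (univ J a.1.1), ?_⟩
      rw [hf, hb, op_comp, op_comp, Functor.map_comp_apply, Functor.map_comp_apply, hl]
    exact hs
  obtain ⟨t, ht⟩ := hU I _ f hJS
  let e := t.equivFin
  refine ⟨t.card, fun i => (e.symm i).1.1.1, fun i => (e.symm i).1.1.2, ?_, fun i => (e.symm i).1.2.1, fun i => (e.symm i).1.2.2⟩
  obtain ⟨R, hR, hR'⟩ := ht U (univ J U)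
  suffices hloc : Loc J U fun W g => Sieve.ofArrows (fun i => (e.symm i).1.1.1) (fun i => (e.symm i).1.1.2) g by
    obtain ⟨T, hT, hT'⟩ := hloc
    exact J.superset_covering (fun W w hw => hT' w hw) hT
  refine (Loc.of_mem hR).bind fun W g hg => ?_
  obtain ⟨a, x, hx⟩ := hR' W g hg
  refine (rep_loc_surj x).bind ?_
  rintro Z r ⟨l, hl⟩
  have h1 : (rep J U).obj.map (l ≫ a.1.1.2).op (univ J U) = (rep J U).obj.map (r ≫ g).op (univ J U) := by
    rw [← hf, hl, NatTrans.naturality_apply (f a.1).hom r.op x, op_comp, Functor.map_comp_apply]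
    exact congrArg _ hx
  refine (rep_loc_inj _ _ h1).mono ?_
  intro T t' ht'
  refine (Sieve.mem_ofArrows_iff ..).mpr ⟨e a, t' ≫ l ≫ eqToHom (by rw [Equiv.symm_apply_apply]), ?_⟩
  simp only [Category.assoc] at ht' ⊢
  rw [← ht']
  congr 2
  have key : ∀ (x y : t) (h : x = y), x.1.1.2 = eqToHom (congrArg (fun z : t => z.1.1.1) h) ≫ y.1.1.2 := by
    rintro x y rfl
    simp
  exact key a (e.symm (e a)) (e.symm_apply_apply a).symm

end Groth.Agent.FinPresOn
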