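import Groth.Agent.FinPresOn.Basic

/-!
Finitely generated and finitely presented modules built from `freeOn` of quasi-compact objects.
-/

set_option backward.isDefEq.respectTransparency false
set_option backward.isDefEq.respectTransparency.types false
set_option linter.style.haveILetI false
set_option autoImplicit false
set_option maxHeartbeats 1000000

universe u

namespace Groth.Agent.FinPresOn

open CategoryTheory Limits Opposite
open Groth.Agent.PullFlat (Loc sect_ext)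
open Groth.Agent.ModSiteFlat (rmap rmap_comp)

variable {C : Type u} [SmallCategory C] {J : GrothendieckTopology C} {O : Sheaf J CommRingCat.{u}}

/-- finitely generated by `freeOn` of objects of `B` -/
def FG (B : Set C) (M : ModSite.Mod O) : Prop :=
  ∃ (n : ℕ) (U : Fin n → C) (p : (∐ fun i => ModSite.freeOn O (U i)) ⟶ M), (∀ i, U i ∈ B) ∧ Epi p

/-- finitely presented by `freeOn` of objects of `B` -/
def FP (B : Set C) (F : ModSite.Mod O) : Prop :=
  ∃ (m' n' : ℕ) (V' : Fin m' → C) (U' : Fin n' → C)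
    (ψ : (∐ fun j => ModSite.freeOn O (V' j)) ⟶ ∐ fun i => ModSite.freeOn O (U' i)),
    (∀ j, V' j ∈ B) ∧ (∀ i, U' i ∈ B) ∧ Nonempty (F ≅ cokernel ψ)

variable {B : Set C}

lemma fg_free {n : ℕ} (U : Fin n → C) (hU : ∀ i, U i ∈ B) : FG B (∐ fun i => ModSite.freeOn O (U i)) :=
  ⟨n, U, 𝟙 _, hU, inferInstance⟩

lemma FG.of_epi {M N : ModSite.Mod O} (h : FG B M) (p : M ⟶ N) [Epi p] : FG B N := by
  obtain ⟨n, U, q, hU, hq⟩ := h
  exact ⟨n, U, q ≫ p, hU, epi_comp _ _⟩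

/-- an epimorphism from a finite family of `freeOn`, reindexed -/
lemma fg_of_family {ι : Type} [Finite ι] {M : ModSite.Mod O} (U : ι → C) (hU : ∀ i, U i ∈ B)
    (s : ∀ i, ModSite.freeOn O (U i) ⟶ M) (h : ∀ {Z : ModSite.Mod O} (φ : M ⟶ Z), (∀ i, s i ≫ φ = 0) → φ = 0) :
    FG B M := by
  haveI := Fintype.ofFinite ι
  let e := Fintype.equivFin ι
  refine ⟨Fintype.card ι, fun k => U (e.symm k), Sigma.desc fun k => s (e.symm k), fun k => hU _, ?_⟩
  rw [Preadditive.epi_iff_cancel_zero]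
  intro Z φ hφ
  refine h φ fun i => ?_
  have h1 := congrArg (Sigma.ι (fun k => ModSite.freeOn O (U (e.symm k))) (e i) ≫ ·) hφ
  simp only [Sigma.ι_desc_assoc, comp_zero] at h1
  generalize hj : e.symm (e i) = j at h1
  rw [e.symm_apply_apply] at hj
  subst hj
  exact h1

lemma fg_sup {M N X : ModSite.Mod O} (hM : FG B M) (hN : FG B N) (f : M ⟶ X) (g : N ⟶ X)
    (h : ∀ {Z : ModSite.Mod O} (φ : X ⟶ Z), f ≫ φ = 0 → g ≫ φ = 0 → φ = 0) : FG B X := by
  obtain ⟨m, U, p, hU, hp⟩ := hM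
  obtain ⟨n, V, q, hV, hq⟩ := hN
  refine fg_of_family (ι := Fin m ⊕ Fin n) (Sum.elim U V) (Sum.forall.2 ⟨hU, hV⟩)
    (fun k => match k with
      | .inl i => Sigma.ι (fun i => ModSite.freeOn O (U i)) i ≫ p ≫ f
      | .inr j => Sigma.ι (fun j => ModSite.freeOn O (V j)) j ≫ q ≫ g) ?_
  intro Z φ hφ
  refine h φ ((cancel_epi p).1 (Sigma.hom_ext _ _ fun i => ?_)) ((cancel_epi q).1 (Sigma.hom_ext _ _ fun j => ?_))
  · simpa using hφ (Sum.inl i)
  · simpa using hφ (Sum.inr j)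

/-- a map from a finitely generated free module lifts along an epimorphism after refining -/
lemma exists_lift (hB₁ : Covers J B)
    (hB₂ : ∀ U ∈ B, CohCx.IsQcObject ((presheafToSheaf J (Type u)).obj (yoneda.obj U)))
    {P G : ModSite.Mod O} (p : P ⟶ G) [Epi p] {n : ℕ} (U : Fin n → C) (hU : ∀ i, U i ∈ B)
    (f : (∐ fun i => ModSite.freeOn O (U i)) ⟶ G) :
    ∃ (m : ℕ) (V : Fin m → C) (e : (∐ fun k => ModSite.freeOn O (V k)) ⟶ ∐ fun i => ModSite.freeOn O (U i))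
      (f' : (∐ fun k => ModSite.freeOn O (V k)) ⟶ P), (∀ k, V k ∈ B) ∧ Epi e ∧ f' ≫ p = e ≫ f := by
  let s : ∀ i, ModSite.sect G (U i) := fun i => val (Sigma.ι (fun i => ModSite.freeOn O (U i)) i ≫ f)
  choose m V g hcov hVB t ht using fun i => exists_finite_refine hB₁ (hB₂ _ (hU i)) (loc_lift_epi p (s i))
  let ι := Σ i : Fin n, Fin (m i)
  let e' := Fintype.equivFin ι
  let W : Fin (Fintype.card ι) → C := fun k => V (e'.symm k).1 (e'.symm k).2
  let e : (∐ fun k => ModSite.freeOn O (W k)) ⟶ ∐ fun i => ModSite.freeOn O (U i) :=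
    Sigma.desc fun k => freeMap O (g (e'.symm k).1 (e'.symm k).2) ≫ Sigma.ι (fun i => ModSite.freeOn O (U i)) (e'.symm k).1
  refine ⟨_, W, e, Sigma.desc fun k => ofSec (t (e'.symm k).1 (e'.symm k).2), fun k => hVB _ _, ?_, ?_⟩
  · rw [Preadditive.epi_iff_cancel_zero]
    intro Z φ hφ
    refine Sigma.hom_ext _ _ fun i => ?_
    haveI := epi_desc_freeMap (O := O) (V i) (g i) (hcov i)
    rw [comp_zero, ← cancel_epi (Sigma.desc fun k => freeMap O (g i k)), comp_zero]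
    refine Sigma.hom_ext _ _ fun k => ?_
    have h1 := congrArg (Sigma.ι (fun k => ModSite.freeOn O (W k)) (e' ⟨i, k⟩) ≫ ·) hφ
    simp only [e, Sigma.ι_desc_assoc, Category.assoc, comp_zero] at h1
    simp only [Sigma.ι_desc_assoc, comp_zero]
    have key : ∀ q : ι, e'.symm (e' ⟨i, k⟩) = q →
        freeMap O (g q.1 q.2) ≫ Sigma.ι (fun i => ModSite.freeOn O (U i)) q.1 ≫ φ = 0 := by
      rintro q rfl
      exact h1
    exact key ⟨i, k⟩ (e'.symm_apply_apply _)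
  · refine Sigma.hom_ext _ _ fun k => ?_
    simp only [e, Sigma.ι_desc_assoc, Category.assoc]
    rw [ofSec_comp, ht, ← freeMap_ofSec]
    simp only [s, ofSec_val]

variable {F G : ModSite.Mod O}

lemma FP.fg (h : FP B F) : FG B F := by
  obtain ⟨m, n, V, U, ψ, -, hU, ⟨e⟩⟩ := h
  exact ⟨n, U, cokernel.π ψ ≫ e.inv, hU, inferInstance⟩

/-- finitely presented data with any finite relation module -/
lemma fp_of_cokernel {n : ℕ} (U : Fin n → C) (hU : ∀ i, U i ∈ B) {R : ModSite.Mod O} (hR : FG B R)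
    (r : R ⟶ ∐ fun i => ModSite.freeOn O (U i)) (π : (∐ fun i => ModSite.freeOn O (U i)) ⟶ F) [Epi π] (w : r ≫ π = 0)
    (h : ∀ {Z : ModSite.Mod O} (φ : (∐ fun i => ModSite.freeOn O (U i)) ⟶ Z), r ≫ φ = 0 → ∃ u, π ≫ u = φ) :
    FP B F := by
  obtain ⟨m, V, q, hV, hq⟩ := hR
  have hc : IsColimit (CokernelCofork.ofπ (f := q ≫ r) π (by rw [Category.assoc, w, comp_zero])) :=
    CokernelCofork.IsColimit.ofπ _ _
      (fun φ hφ => (h φ (by rwa [Category.assoc, ← comp_zero (f := q), cancel_epi] at hφ)).choose)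
      (fun φ hφ => (h φ (by rwa [Category.assoc, ← comp_zero (f := q), cancel_epi] at hφ)).choose_spec)
      fun φ hφ u hu => (cancel_epi π).1 (hu.trans (h φ (by rwa [Category.assoc, ← comp_zero (f := q), cancel_epi] at hφ)).choose_spec.symm)
  exact ⟨m, n, V, U, q ≫ r, hV, hU, ⟨hc.coconePointUniqueUpToIso (colimit.isColimit _)⟩⟩

/-- a presentation -/
lemma FP.exists_pres (h : FP B F) :
    ∃ (m n : ℕ) (V : Fin m → C) (U : Fin n → C) (ψ : (∐ fun j => ModSite.freeOn O (V j)) ⟶ ∐ fun i => ModSite.freeOn O (U i))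
      (π : (∐ fun i => ModSite.freeOn O (U i)) ⟶ F), (∀ j, V j ∈ B) ∧ (∀ i, U i ∈ B) ∧ Epi π ∧ ψ ≫ π = 0 ∧
        ∀ {Z : ModSite.Mod O} (φ : (∐ fun i => ModSite.freeOn O (U i)) ⟶ Z), ψ ≫ φ = 0 → ∃ u, π ≫ u = φ := by
  obtain ⟨m, n, V, U, ψ, hV, hU, ⟨e⟩⟩ := h
  refine ⟨m, n, V, U, ψ, cokernel.π ψ ≫ e.inv, hV, hU, inferInstance, ?_, fun φ hφ => ⟨e.hom ≫ cokernel.desc ψ φ hφ, ?_⟩⟩
  · rw [cokernel.condition_assoc, zero_comp]
  · simp

theorem fp_cokernel (hB₁ : Covers J B)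
    (hB₂ : ∀ U ∈ B, CohCx.IsQcObject ((presheafToSheaf J (Type u)).obj (yoneda.obj U)))
    (hF : FG B F) (hG : FP B G) (α : F ⟶ G) : FP B (cokernel α) := by
  obtain ⟨nF, UF, p, hUF, hp⟩ := hF
  obtain ⟨m, n, V, U, ψ, π, hV, hU, hπ, w, huniv⟩ := hG.exists_pres
  obtain ⟨k, W, e, f, hW, he, hef⟩ := exists_lift hB₁ hB₂ π UF hUF (p ≫ α)
  haveI := hπ
  let R := (∐ fun k => ModSite.freeOn O (W k)) ⊞ (∐ fun j => ModSite.freeOn O (V j))
  have hR : FG B R := fg_sup (fg_free W hW) (fg_free V hV) biprod.inl biprod.inr fun φ h1 h2 =>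
    biprod.hom_ext' _ _ (by rw [h1, comp_zero]) (by rw [h2, comp_zero])
  refine fp_of_cokernel U hU hR (biprod.desc f ψ) (π ≫ cokernel.π α) ?_ fun {Z} φ hφ => ?_
  · refine biprod.hom_ext' _ _ ?_ ?_
    · simp [reassoc_of% hef]
    · simp [reassoc_of% w]
  · have h1 : f ≫ φ = 0 := by
      have := congrArg (biprod.inl ≫ ·) hφ
      simpa using this
    have h2 : ψ ≫ φ = 0 := by
      have := congrArg (biprod.inr ≫ ·) hφ
      simpa using this
    obtain ⟨u, hu⟩ := huniv φ h2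
    have h3 : α ≫ u = 0 := by
      haveI := hp
      haveI := he
      rw [← cancel_epi p, ← cancel_epi e, comp_zero, comp_zero, ← reassoc_of% hef, hu, h1]
    exact ⟨cokernel.desc α u h3, by simp [hu]⟩

end Groth.Agent.FinPresOn
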