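import Groth.Agent.FinPresOn.Closure
import Groth.Agent.HomColim.Sections

/-!
Every module is a filtered colimit of finitely presented modules.
-/

set_option backward.isDefEq.respectTransparency false
set_option backward.isDefEq.respectTransparency.types false
set_option linter.style.haveILetI false
set_option autoImplicit false
set_option maxHeartbeats 1000000

universe u

namespace Groth.Agent.FinPresOn

open CategoryTheory Limits Opposite
open Groth.Agent.PullFlat (Loc sect_ext)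
open Groth.Agent.ModSiteFlat (rmap rmap_comp)

variable {C : Type u} [SmallCategory C] {J : GrothendieckTopology C} {O : Sheaf J CommRingCat.{u}}
variable {B : Set C}

lemma FP.of_iso {M N : ModSite.Mod O} (h : FP B M) (e : M ≅ N) : FP B N := by
  obtain ⟨m, n, V, U, ψ, hV, hU, ⟨a⟩⟩ := h
  exact ⟨m, n, V, U, ψ, hV, hU, ⟨e.symm ≪≫ a⟩⟩

lemma fp_free {n : ℕ} (U : Fin n → C) (hU : ∀ i, U i ∈ B) : FP B (∐ fun i => ModSite.freeOn O (U i)) :=
  fp_of_cokernel (R := ∐ fun i : Fin 0 => ModSite.freeOn O (i.elim0 : C)) U hU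
    (fg_free _ fun i => i.elim0) 0 (𝟙 _) zero_comp fun φ _ => ⟨φ, Category.id_comp _⟩

lemma fp_single {V : C} (hV : V ∈ B) : FP B (ModSite.freeOn O V) := by
  refine (fp_free (O := O) (fun _ : Fin 1 => V) fun _ => hV).of_iso
    ⟨Sigma.desc fun _ => 𝟙 _, Sigma.ι (fun _ : Fin 1 => ModSite.freeOn O V) 0, ?_, ?_⟩
  · refine Sigma.hom_ext _ _ fun i => ?_
    obtain rfl : i = 0 := Subsingleton.elim _ _
    simp
  · simp

lemma exists_iso_free_biprod {n₁ n₂ : ℕ} (U₁ : Fin n₁ → C) (U₂ : Fin n₂ → C) (h₁ : ∀ i, U₁ i ∈ B) (h₂ : ∀ i, U₂ i ∈ B) :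
    ∃ (n : ℕ) (U : Fin n → C), (∀ i, U i ∈ B) ∧ Nonempty ((∐ fun i => ModSite.freeOn O (U i)) ≅
      (∐ fun i => ModSite.freeOn O (U₁ i)) ⊞ ∐ fun i => ModSite.freeOn O (U₂ i)) := by
  let e := (finSumFinEquiv (m := n₁) (n := n₂)).symm
  let T := Sum.elim U₁ U₂
  let c : ∀ a : Fin n₁ ⊕ Fin n₂, ModSite.freeOn O (T a) ⟶ (∐ fun i => ModSite.freeOn O (U₁ i)) ⊞ ∐ fun i => ModSite.freeOn O (U₂ i) :=
    fun a => match a with
      | .inl i => Sigma.ι (fun i => ModSite.freeOn O (U₁ i)) i ≫ biprod.inl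
      | .inr i => Sigma.ι (fun i => ModSite.freeOn O (U₂ i)) i ≫ biprod.inr
  let π := Sigma.desc fun k => c (e k)
  have hfwd : ∀ a, ∃ f : ModSite.freeOn O (T a) ⟶ ∐ fun k => ModSite.freeOn O (T (e k)), f ≫ π = c a ∧
      ∀ k, e k = a → HEq f (Sigma.ι (fun k => ModSite.freeOn O (T (e k))) k) := by
    intro a
    obtain ⟨k, rfl⟩ := e.surjective a
    exact ⟨Sigma.ι (fun k => ModSite.freeOn O (T (e k))) k, by simp [π], fun k' h => by rw [e.injective h]⟩
  choose f hf hf' using hfwd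
  refine ⟨_, fun k => T (e k), fun k => Sum.rec h₁ h₂ (e k) (motive := fun a => T a ∈ B),
    ⟨⟨π, biprod.desc (Sigma.desc fun i => f (.inl i)) (Sigma.desc fun i => f (.inr i)), ?_, ?_⟩⟩⟩
  · refine Sigma.hom_ext _ _ fun k => ?_
    rw [Sigma.ι_desc_assoc, Category.comp_id]
    have key : ∀ a, c a ≫ biprod.desc (Sigma.desc fun i => f (.inl i)) (Sigma.desc fun i => f (.inr i)) = f a := by
      rintro (i | i) <;> simp [c]
    rw [key]
    exact eq_of_heq (hf' _ k rfl)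
  · refine biprod.hom_ext' _ _ (Sigma.hom_ext _ _ fun i => ?_) (Sigma.hom_ext _ _ fun i => ?_)
    · simp [hf, c]
    · simp [hf, c]

lemma fp_free_biprod {n₁ n₂ : ℕ} (U₁ : Fin n₁ → C) (U₂ : Fin n₂ → C) (h₁ : ∀ i, U₁ i ∈ B) (h₂ : ∀ i, U₂ i ∈ B) :
    FP B ((∐ fun i => ModSite.freeOn O (U₁ i)) ⊞ ∐ fun i => ModSite.freeOn O (U₂ i)) := by
  obtain ⟨n, U, hU, ⟨e⟩⟩ := exists_iso_free_biprod (O := O) U₁ U₂ h₁ h₂
  exact (fp_free U hU).of_iso e

/-- finitely presented as the cokernel of a map from finitely generated to finitely presented -/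
lemma fp_of_exact (hB₁ : Covers J B)
    (hB₂ : ∀ U ∈ B, CohCx.IsQcObject ((presheafToSheaf J (Type u)).obj (yoneda.obj U)))
    {R G X : ModSite.Mod O} (hR : FG B R) (hG : FP B G) (r : R ⟶ G) (π : G ⟶ X) [Epi π] (w : r ≫ π = 0)
    (h : ∀ {Z : ModSite.Mod O} (φ : G ⟶ Z), r ≫ φ = 0 → ∃ u, π ≫ u = φ) : FP B X := by
  have hc : IsColimit (CokernelCofork.ofπ (f := r) π w) :=
    CokernelCofork.IsColimit.ofπ _ _ (fun φ hφ => (h φ hφ).choose) (fun φ hφ => (h φ hφ).choose_spec)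
      fun φ hφ u hu => (cancel_epi π).1 (hu.trans (h φ hφ).choose_spec.symm)
  exact (fp_cokernel hB₁ hB₂ hR hG r).of_iso ((colimit.isColimit _).coconePointUniqueUpToIso hc)

lemma fp_biprod (hB₁ : Covers J B)
    (hB₂ : ∀ U ∈ B, CohCx.IsQcObject ((presheafToSheaf J (Type u)).obj (yoneda.obj U)))
    {X Y : ModSite.Mod O} (hX : FP B X) (hY : FP B Y) : FP B (X ⊞ Y) := by
  obtain ⟨m₁, n₁, V₁, U₁, ψ₁, π₁, hV₁, hU₁, hπ₁, w₁, huniv₁⟩ := hX.exists_pres
  obtain ⟨m₂, n₂, V₂, U₂, ψ₂, π₂, hV₂, hU₂, hπ₂, w₂, huniv₂⟩ := hY.exists_pres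
  haveI := hπ₁
  haveI := hπ₂
  refine fp_of_exact hB₁ hB₂ (fp_free_biprod V₁ V₂ hV₁ hV₂).fg (fp_free_biprod U₁ U₂ hU₁ hU₂)
    (biprod.map ψ₁ ψ₂) (biprod.map π₁ π₂) ?_ fun φ hφ => ?_
  · apply biprod.hom_ext' <;> simp [reassoc_of% w₁, reassoc_of% w₂]
  · obtain ⟨u₁, hu₁⟩ := huniv₁ (biprod.inl ≫ φ) (by
      have := congrArg (biprod.inl ≫ ·) hφ
      simpa using this)
    obtain ⟨u₂, hu₂⟩ := huniv₂ (biprod.inr ≫ φ) (by
      have := congrArg (biprod.inr ≫ ·) hφ
      simpa using this)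
    exact ⟨biprod.desc u₁ u₂, by apply biprod.hom_ext' <;> simp [hu₁, hu₂]⟩

lemma val_zero {U : C} {M : ModSite.Mod O} : val (0 : ModSite.freeOn O U ⟶ M) = 0 := by
  rw [← comp_zero (f := 𝟙 (ModSite.freeOn O U)), val_comp]
  rfl

variable (O B) in
/-- small model of a finitely presented module over `F` -/
structure Model (F : ModSite.Mod O) : Type u where
  m : ℕ
  n : ℕ
  V : Fin m → C
  U : Fin n → C
  hV : ∀ j, V j ∈ B
  hU : ∀ i, U i ∈ B
  ψ : (∐ fun j => ModSite.freeOn O (V j)) ⟶ ∐ fun i => ModSite.freeOn O (U i)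
  ρ : cokernel ψ ⟶ F

variable {F : ModSite.Mod O}

noncomputable instance : Category (Model O B F) where
  Hom a b := {f : cokernel a.ψ ⟶ cokernel b.ψ // f ≫ b.ρ = a.ρ}
  id a := ⟨𝟙 _, Category.id_comp _⟩
  comp f g := ⟨f.1 ≫ g.1, by rw [Category.assoc, g.2, f.2]⟩

variable (O B F) in
/-- the tautological diagram -/
noncomputable def diag : Model O B F ⥤ ModSite.Mod O where
  obj a := cokernel a.ψ
  map f := f.1

variable (O B F) in
/-- the tautological cocone -/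
noncomputable def cone : diag O B F ⟶ (Functor.const (Model O B F)).obj F where
  app a := a.ρ
  naturality _ _ f := f.2.trans (Category.comp_id _).symm

lemma fp_model (a : Model O B F) : FP B (cokernel a.ψ) :=
  ⟨a.m, a.n, a.V, a.U, a.ψ, a.hV, a.hU, ⟨Iso.refl _⟩⟩

lemma exists_model {X : ModSite.Mod O} (h : FP B X) (ρ : X ⟶ F) :
    ∃ (a : Model O B F) (e : X ≅ cokernel a.ψ), e.hom ≫ a.ρ = ρ := by
  obtain ⟨m, n, V, U, ψ, hV, hU, ⟨e⟩⟩ := h
  exact ⟨⟨m, n, V, U, hV, hU, ψ, e.inv ≫ ρ⟩, e, e.hom_inv_id_assoc _⟩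

variable (hB₁ : Covers J B)
  (hB₂ : ∀ U ∈ B, CohCx.IsQcObject ((presheafToSheaf J (Type u)).obj (yoneda.obj U)))

include hB₁ hB₂ in
lemma isFiltered_model : IsFiltered (Model O B F) := by
  refine { cocone_objs := fun a b => ?_, cocone_maps := fun a b f g => ?_, nonempty := ?_ }
  · obtain ⟨c, e, he⟩ := exists_model (fp_biprod hB₁ hB₂ (fp_model a) (fp_model b)) (biprod.desc a.ρ b.ρ)
    exact ⟨c, ⟨biprod.inl ≫ e.hom, by simp [he]⟩, ⟨biprod.inr ≫ e.hom, by simp [he]⟩, trivial⟩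
  · obtain ⟨c, e, he⟩ := exists_model (fp_cokernel hB₁ hB₂ (fp_model a).fg (fp_model b) (f.1 - g.1))
      (cokernel.desc _ b.ρ (by rw [Preadditive.sub_comp, f.2, g.2, sub_self]))
    refine ⟨c, ⟨cokernel.π (f.1 - g.1) ≫ e.hom, by simp [he]⟩, Subtype.ext ?_⟩
    show f.1 ≫ _ = g.1 ≫ _
    rw [← sub_eq_zero, ← Preadditive.sub_comp, cokernel.condition_assoc, zero_comp]
  · exact ⟨⟨0, 0, fun i => i.elim0, fun i => i.elim0, fun i => i.elim0, fun i => i.elim0, 0, 0⟩⟩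

include hB₁ hB₂ in
theorem exists_filtered_colimit (F : ModSite.Mod O) :
    ∃ (Λ : Type u) (_ : SmallCategory Λ) (_ : IsFiltered Λ) (D : Λ ⥤ ModSite.Mod O) (ι : D ⟶ (Functor.const Λ).obj F),
      (∀ l, FP B (D.obj l)) ∧ Nonempty (IsColimit (Cocone.mk F ι)) := by
  haveI := isFiltered_model (F := F) hB₁ hB₂
  refine ⟨Model O B F, inferInstance, inferInstance, diag O B F, cone O B F, fp_model, ⟨?_⟩⟩
  let θ := colimit.desc (diag O B F) (Cocone.mk F (cone O B F))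
  have hθ : ∀ a, colimit.ι (diag O B F) a ≫ θ = a.ρ := fun a => colimit.ι_desc _ _
  have nat : ∀ {M N : ModSite.Mod O} (φ : M ⟶ N) {W U : C} (g : W ⟶ U) (s : ModSite.sect M U),
      φ.val.app (op W) (rmap M g s) = rmap N g (φ.val.app (op U) s) :=
    fun φ _ _ g s => PresheafOfModules.naturality_apply φ.val g.op s
  haveI : Mono θ := by
    rw [Preadditive.mono_iff_cancel_zero]
    intro Z q hq
    ext ⟨U⟩ (z : ModSite.sect Z U)
    have hx : θ.val.app (op U) (q.val.app (op U) z) = 0 :=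
      congrArg (fun k : Z ⟶ F => k.val.app (op U) z) hq
    show q.val.app (op U) z = 0
    generalize q.val.app (op U) z = x at hx
    refine sect_ext ?_
    refine (HomColim.loc_surj_colim _ (colimit.isColimit (diag O B F)) x).bind fun W g hg => ?_
    obtain ⟨a, t, ht⟩ := hg
    obtain ⟨κ, Y, y, hy, hY⟩ := hB₁ W
    refine ⟨_, hy, fun Z' w hw => ?_⟩
    obtain ⟨k, r, rfl⟩ := (Sieve.mem_ofArrows_iff ..).mp hw
    have hat : a.ρ.val.app (op W) t = 0 := by
      rw [← hθ a]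
      show θ.val.app (op W) ((colimit.ι (diag O B F) a).val.app (op W) t) = 0
      exact (congrArg _ ht).trans ((nat θ g x).trans ((congrArg _ hx).trans (map_zero _)))
    let t' := rmap (cokernel a.ψ) (y k) t
    have h0 : ofSec t' ≫ a.ρ = 0 := val_inj (by
      rw [val_comp, val_ofSec]
      exact (nat _ _ _).trans (((congrArg _ hat).trans (map_zero _)).trans val_zero.symm))
    obtain ⟨c, e, he⟩ := exists_model (fp_cokernel hB₁ hB₂ (fp_single (hY k)).fg (fp_model a) (ofSec t'))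
      (cokernel.desc _ a.ρ h0)
    let l : a ⟶ c := ⟨cokernel.π (ofSec t') ≫ e.hom, by simp [he]⟩
    have hl : (colimit.ι (diag O B F) a).val.app (op (Y k)) t' = 0 := by
      rw [← colimit.w (diag O B F) l]
      show _ = (0 : ModSite.sect _ _)
      have h1 : ofSec t' ≫ (cokernel.π (ofSec t') ≫ e.hom ≫ colimit.ι (diag O B F) c) = 0 := by
        rw [cokernel.condition_assoc, zero_comp]
      have h2 := congrArg val h1
      rw [val_comp, val_ofSec, val_zero] at h2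
      exact h2
    refine (rmap_comp _ _ _ _).trans ((rmap_comp _ _ _ _).trans ?_)
    refine Eq.trans (congrArg _ ((congrArg _ ht.symm).trans ((nat _ _ _).symm.trans hl))) ?_
    exact (map_zero _).trans (map_zero _).symm
  haveI : Epi θ := by
    rw [Preadditive.epi_iff_cancel_zero]
    intro Z φ hφ
    ext ⟨U⟩ (s : ModSite.sect F U)
    show φ.val.app (op U) s = 0
    obtain ⟨κ, Y, y, hy, hY⟩ := hB₁ U
    refine sect_ext ⟨_, hy, fun W w hw => ?_⟩
    obtain ⟨k, r, rfl⟩ := (Sieve.mem_ofArrows_iff ..).mp hw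
    obtain ⟨a, e, he⟩ := exists_model (fp_single (hY k)) (ofSec (rmap F (y k) s))
    have h1 : a.ρ ≫ φ = 0 := by rw [← hθ a, Category.assoc, hφ, comp_zero]
    have h2 : ofSec (rmap F (y k) s) ≫ φ = 0 := by rw [← he, Category.assoc, h1, comp_zero]
    have h3 := congrArg val h2
    rw [val_comp, val_ofSec] at h3
    rw [rmap_comp, ← nat, h3, val_zero]
    exact (map_zero _).trans (map_zero _).symm
  haveI : IsIso θ := isIso_of_mono_of_epi θ
  exact @IsColimit.ofPointIso _ _ _ _ _ _ _ (colimit.isColimit _) (inferInstanceAs (IsIso θ))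

end Groth.Agent.FinPresOn
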