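import Groth.Agent.FinPresOn.Kernel

/-!
Extensions of finitely presented modules.
-/

set_option backward.isDefEq.respectTransparency false
set_option backward.isDefEq.respectTransparency.types false
set_option linter.style.haveILetI false
set_option autoImplicit false
set_option maxHeartbeats 1000000

universe u

namespace Groth.Agent.FinPresOn

open CategoryTheory Limits Opposite
open Groth.Agent.PullFlat (Loc sect_ext sect_glue)
open Groth.Agent.ModSiteFlat (rmap rmap_comp)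

variable {C : Type u} [SmallCategory C] {J : GrothendieckTopology C} {O : Sheaf J CommRingCat.{u}}
variable {B : Set C}

lemma loc_true (hB₁ : Covers J B) (U : C) : Loc J U fun W _ => ∃ W' : C, Nonempty (W ⟶ W') :=
  (loc_mem hB₁ U).mono fun _ _ ⟨W', _, h⟩ => ⟨W', h⟩

/-- maps on the members of a cover agreeing on overlaps glue -/
lemma glue_free [HasPullbacks C] {U : C} {ι : Type} (V : ι → C) (g : ∀ i, V i ⟶ U) (hg : Sieve.ofArrows V g ∈ J U)
    {Z : ModSite.Mod O} (φ : ∀ i, ModSite.freeOn O (V i) ⟶ Z)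
    (h : ∀ i j, rmap Z (pullback.fst (g i) (g j)) (val (φ i)) = rmap Z (pullback.snd (g i) (g j)) (val (φ j))) :
    ∃ u : ModSite.freeOn O U ⟶ Z, ∀ i, freeMap O (g i) ≫ u = φ i := by
  have hch : ∀ (W : C) (f : W ⟶ U), Sieve.ofArrows V g f → ∃ (i : ι) (a : W ⟶ V i), a ≫ g i = f := fun W f hf => by
    obtain ⟨i, a, rfl⟩ := (Sieve.mem_ofArrows_iff ..).mp hf
    exact ⟨i, a, rfl⟩
  choose i a ha using hch
  have key : ∀ {W : C} {k l : ι} (b : W ⟶ V k) (c : W ⟶ V l), b ≫ g k = c ≫ g l →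
      rmap Z b (val (φ k)) = rmap Z c (val (φ l)) := fun {W k l} b c hbc => by
    have hb : rmap Z b (val (φ k)) = rmap Z (pullback.lift b c hbc ≫ pullback.fst _ _) (val (φ k)) := by
      rw [pullback.lift_fst]
    have hc : rmap Z c (val (φ l)) = rmap Z (pullback.lift b c hbc ≫ pullback.snd _ _) (val (φ l)) := by
      rw [pullback.lift_snd]
    rw [hb, hc, rmap_comp, rmap_comp, h]
  obtain ⟨s, hs⟩ := sect_glue (G := Z) hg (fun W f hf => rmap Z (a W f hf) (val (φ (i W f hf))))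
    fun U₁ U₂ f hf t => ((rmap_comp (F := Z) _ t _).symm.trans (key (t ≫ a _ f hf) (a _ _ _) (by rw [Category.assoc, ha, ha])))
  refine ⟨ofSec s, fun k => val_inj ?_⟩
  rw [freeMap_ofSec, val_ofSec]
  have hk : Sieve.ofArrows V g (g k) := (Sieve.mem_ofArrows_iff ..).mpr ⟨k, 𝟙 _, by simp⟩
  refine (hs (g k) hk).trans ((key _ (𝟙 _) (by rw [ha, Category.id_comp])).trans ?_)
  exact ConcreteCategory.congr_hom (Z.val.presheaf.map_id _) _

variable [HasPullbacks C] (hB₁ : Covers J B)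
  (hB₂ : ∀ U ∈ B, CohCx.IsQcObject ((presheafToSheaf J (Type u)).obj (yoneda.obj U)))
  (hB₃ : ∀ (U U₁ U₂ : C) (f₁ : U₁ ⟶ U) (f₂ : U₂ ⟶ U), U ∈ B → U₁ ∈ B → U₂ ∈ B →
    CohCx.IsQcObject ((presheafToSheaf J (Type u)).obj (yoneda.obj (pullback f₁ f₂))))

include hB₁ hB₂ hB₃ in
/-- lifting with finitely generated relations of the refinement -/
lemma exists_lift_rel {P G : ModSite.Mod O} (p : P ⟶ G) [Epi p] {n : ℕ} (U : Fin n → C) (hU : ∀ i, U i ∈ B)
    (f : (∐ fun i => ModSite.freeOn O (U i)) ⟶ G) :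
    ∃ (m : ℕ) (V : Fin m → C) (e : (∐ fun k => ModSite.freeOn O (V k)) ⟶ ∐ fun i => ModSite.freeOn O (U i))
      (f' : (∐ fun k => ModSite.freeOn O (V k)) ⟶ P), (∀ k, V k ∈ B) ∧ Epi e ∧ f' ≫ p = e ≫ f ∧
      ∃ (R : ModSite.Mod O) (r : R ⟶ ∐ fun k => ModSite.freeOn O (V k)), FG B R ∧ r ≫ e = 0 ∧
        ∀ {Z : ModSite.Mod O} (φ : (∐ fun k => ModSite.freeOn O (V k)) ⟶ Z), r ≫ φ = 0 → ∃ u, e ≫ u = φ := by
  let s : ∀ i, ModSite.sect G (U i) := fun i => val (Sigma.ι (fun i => ModSite.freeOn O (U i)) i ≫ f)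
  choose m V g hcov hVB t ht using fun i => exists_finite_refine hB₁ (hB₂ _ (hU i)) (loc_lift_epi p (s i))
  let ι := Σ i : Fin n, Fin (m i)
  let W : ι → C := fun q => V q.1 q.2
  let e₀ : (∐ fun q => ModSite.freeOn O (W q)) ⟶ ∐ fun i => ModSite.freeOn O (U i) :=
    Sigma.desc fun q => freeMap O (g q.1 q.2) ≫ Sigma.ι (fun i => ModSite.freeOn O (U i)) q.1
  have h3 := fun (i : Fin n) (k l : Fin (m i)) =>
    exists_finite_refine hB₁ (hB₃ (U i) _ _ (g i k) (g i l) (hU i) (hVB i k) (hVB i l)) (loc_true hB₁ _)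
  choose N Y y hy hYB _ using h3
  let κ := Σ i : Fin n, Σ k : Fin (m i), Σ l : Fin (m i), Fin (N i k l)
  let e' := Fintype.equivFin κ
  let D : κ → C := fun q => Y q.1 q.2.1 q.2.2.1 q.2.2.2
  let r₁ : ∀ q : κ, ModSite.freeOn O (D q) ⟶ ∐ fun q => ModSite.freeOn O (W q) := fun ⟨i, k, l, j⟩ =>
    freeMap O (y i k l j ≫ pullback.fst (g i k) (g i l)) ≫ Sigma.ι (fun q => ModSite.freeOn O (W q)) ⟨i, k⟩ -
      freeMap O (y i k l j ≫ pullback.snd (g i k) (g i l)) ≫ Sigma.ι (fun q => ModSite.freeOn O (W q)) ⟨i, l⟩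
  let e'' := Fintype.equivFin ι
  let r₀ := Sigma.desc fun q : Fin (Fintype.card κ) => r₁ (e'.symm q)
  let a := Sigma.reindex e''.symm fun q => ModSite.freeOn O (W q)
  have hfm : ∀ {X₁ X₂ X₃ : C} (c : X₁ ⟶ X₂) (d : X₂ ⟶ X₃), freeMap O (c ≫ d) = freeMap O c ≫ freeMap O d :=
    fun {X₁ X₂ X₃} c d => val_inj (by
      rw [val_freeMap_comp]
      simp only [freeMap, val_ofSec]
      exact rmap_comp (F := ModSite.freeOn O X₃) _ _ _)
  have he : ∀ q : κ, r₁ q ≫ e₀ = 0 := by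
    rintro ⟨i, k, l, j⟩
    simp only [r₁, e₀, Preadditive.sub_comp, Category.assoc, Sigma.ι_desc]
    rw [← Category.assoc, ← Category.assoc, ← hfm, ← hfm, Category.assoc, Category.assoc, pullback.condition, sub_self]
  have huniv : ∀ {Z : ModSite.Mod O} (φ : (∐ fun q => ModSite.freeOn O (W q)) ⟶ Z),
      (∀ q : κ, r₁ q ≫ φ = 0) → ∃ u, e₀ ≫ u = φ := by
    intro Z φ hφ
    have hu : ∀ i : Fin n, ∃ u : ModSite.freeOn O (U i) ⟶ Z,
        ∀ k, freeMap O (g i k) ≫ u = Sigma.ι (fun q => ModSite.freeOn O (W q)) ⟨i, k⟩ ≫ φ := by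
      intro i
      refine glue_free (V i) (g i) (hcov i) _ fun k l => sect_ext ⟨_, hy i k l, fun X x hx => ?_⟩
      obtain ⟨j, b, rfl⟩ := (Sieve.mem_ofArrows_iff ..).mp hx
      have h := hφ ⟨i, k, l, j⟩
      simp only [r₁, Preadditive.sub_comp, sub_eq_zero, Category.assoc] at h
      have h' := congrArg val h
      rw [val_freeMap_comp, val_freeMap_comp, rmap_comp, rmap_comp] at h'
      rw [rmap_comp, rmap_comp, h']
    choose u hu using hu
    exact ⟨Sigma.desc u, Sigma.hom_ext _ _ fun q => by obtain ⟨i, k⟩ := q; simp [e₀, hu]⟩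
  have hu0 : Epi e₀ := by
    rw [Preadditive.epi_iff_cancel_zero]
    intro Z φ hφ
    refine Sigma.hom_ext _ _ fun i => ?_
    haveI := epi_desc_freeMap (O := O) (V i) (g i) (hcov i)
    rw [comp_zero, ← cancel_epi (Sigma.desc fun k => freeMap O (g i k)), comp_zero]
    refine Sigma.hom_ext _ _ fun k => ?_
    have h1 := congrArg (Sigma.ι (fun q => ModSite.freeOn O (W q)) ⟨i, k⟩ ≫ ·) hφ
    simp only [e₀, Sigma.ι_desc_assoc, Category.assoc, comp_zero] at h1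
    simpa using h1
  refine ⟨_, fun k => W (e''.symm k), a.hom ≫ e₀, a.hom ≫ Sigma.desc fun q => ofSec (t q.1 q.2),
    fun k => hVB _ _, epi_comp _ _, ?_, _, r₀ ≫ a.inv,
    fg_free (fun q => D (e'.symm q)) (fun q => hYB _ _ _ _), ?_, fun φ hφ => ?_⟩
  · rw [Category.assoc, Category.assoc]
    refine congrArg (a.hom ≫ ·) (Sigma.hom_ext _ _ fun q => ?_)
    simp only [e₀, Sigma.ι_desc_assoc, Category.assoc]
    rw [ofSec_comp, ht, ← freeMap_ofSec]
    simp only [s, ofSec_val]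
  · refine Sigma.hom_ext _ _ fun q => ?_
    simp [r₀, he]
  · obtain ⟨u, hu⟩ := huniv (a.inv ≫ φ) fun q => by
      obtain ⟨k, rfl⟩ := e'.symm.surjective q
      have := congrArg (Sigma.ι (fun q => ModSite.freeOn O (D (e'.symm q))) k ≫ ·) hφ
      simpa [r₀] using this
    exact ⟨u, by rw [Category.assoc, hu, Iso.hom_inv_id_assoc]⟩

include hB₁ hB₂ hB₃ in
/-- the relations of an epimorphism from a finitely generated onto a finitely presented module -/
lemma exists_rel {M X : ModSite.Mod O} (hM : FG B M) (hX : FP B X) (p : M ⟶ X) [Epi p] :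
    ∃ (R : ModSite.Mod O) (r : R ⟶ M), FG B R ∧ r ≫ p = 0 ∧
      ∀ {Z : ModSite.Mod O} (φ : M ⟶ Z), r ≫ φ = 0 → ∃ u, p ≫ u = φ := by
  obtain ⟨c, T, q, hT, hq⟩ := hM
  obtain ⟨m, n, V, U, ψ, π, hV, hU, hπ, w, huniv⟩ := hX.exists_pres
  haveI := hπ
  haveI := hq
  obtain ⟨a, W, k, f, hW, hk, hf, R₀, r₀, hR₀, hr₀, hu₀⟩ := exists_lift_rel hB₁ hB₂ hB₃ p U hU π
  haveI := hk
  obtain ⟨b, S, k₂, ψ₂, hS, hk₂, hψ₂⟩ := exists_lift hB₁ hB₂ k V hV ψ
  haveI := hk₂
  obtain ⟨d, Q, e', g, hQ, he', hg⟩ := exists_lift hB₁ hB₂ (k ≫ π) T hT (q ≫ p)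
  haveI := he'
  let R₁ := R₀ ⊞ ∐ fun j => ModSite.freeOn O (S j)
  have hR₁ : FG B R₁ := fg_sup hR₀ (fg_free S hS) biprod.inl biprod.inr fun φ h1 h2 =>
    biprod.hom_ext' _ _ (by rw [h1, comp_zero]) (by rw [h2, comp_zero])
  let R := R₁ ⊞ ∐ fun j => ModSite.freeOn O (Q j)
  have hR : FG B R := fg_sup hR₁ (fg_free Q hQ) biprod.inl biprod.inr fun φ h1 h2 =>
    biprod.hom_ext' _ _ (by rw [h1, comp_zero]) (by rw [h2, comp_zero])
  refine ⟨R, biprod.desc (biprod.desc (r₀ ≫ f) (ψ₂ ≫ f)) (e' ≫ q - g ≫ f), hR, ?_, fun φ hφ => ?_⟩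
  · apply biprod.hom_ext'
    · apply biprod.hom_ext' <;> simp [hf, reassoc_of% hr₀, reassoc_of% hψ₂, w]
    · simp [hf, hg]
  · have h₁ : r₀ ≫ f ≫ φ = 0 := by
      have := congrArg (fun x => biprod.inl ≫ x) (congrArg (fun x => biprod.inl ≫ x) hφ)
      simpa using this
    have h₂ : ψ₂ ≫ f ≫ φ = 0 := by
      have := congrArg (fun x => biprod.inr ≫ x) (congrArg (fun x => biprod.inl ≫ x) hφ)
      simpa using this
    have h₃ : e' ≫ q ≫ φ = g ≫ f ≫ φ := by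
      have := congrArg (biprod.inr ≫ ·) hφ
      simpa [sub_eq_zero] using this
    obtain ⟨u, hu⟩ := hu₀ _ h₁
    have hψu : ψ ≫ u = 0 := by
      rw [← cancel_epi k₂, comp_zero, ← reassoc_of% hψ₂, hu, h₂]
    obtain ⟨v, hv⟩ := huniv u hψu
    refine ⟨v, ?_⟩
    rw [← cancel_epi q, ← cancel_epi e', h₃, ← hu, ← hv, ← reassoc_of% hg]

include hB₁ hB₂ hB₃ in
/-- extensions of finitely presented modules are finitely presented -/
theorem fp_extension {S : ShortComplex (ModSite.Mod O)} (hS : S.ShortExact) (h₁ : FP B S.X₁) (h₃ : FP B S.X₃) :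
    FP B S.X₂ := by
  haveI := hS.mono_f
  haveI := hS.epi_g
  obtain ⟨m₃, n₃, V₃, U₃, ψ₃, π₃, -, hU₃, hπ₃, -, -⟩ := h₃.exists_pres
  haveI := hπ₃
  obtain ⟨c, P, e, f, hP, he, hf⟩ := exists_lift hB₁ hB₂ S.g U₃ hU₃ π₃
  haveI := he
  obtain ⟨R, r, hR, hr, hu⟩ := exists_rel hB₁ hB₂ hB₃ (fg_free P hP) h₃ (e ≫ π₃)
  have hrf : (r ≫ f) ≫ S.g = 0 := by rw [Category.assoc, hf, hr]
  let t := hS.exact.lift (r ≫ f) hrf
  have ht : t ≫ S.f = r ≫ f := hS.exact.lift_f _ _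
  haveI : Epi (biprod.desc S.f f) := by
    rw [Preadditive.epi_iff_cancel_zero]
    intro Z φ hφ
    have h1 : S.f ≫ φ = 0 := by
      have := congrArg (biprod.inl ≫ ·) hφ
      simpa using this
    have h2 : f ≫ φ = 0 := by
      have := congrArg (biprod.inr ≫ ·) hφ
      simpa using this
    obtain ⟨v, hv⟩ : ∃ v, S.g ≫ v = φ := ⟨hS.exact.desc φ h1, hS.exact.g_desc _ _⟩
    have h3 : v = 0 := by
      rw [← cancel_epi π₃, ← cancel_epi e, comp_zero, comp_zero, ← reassoc_of% hf, hv, h2]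
    rw [← hv, h3, comp_zero]
  refine fp_of_exact hB₁ hB₂ hR (fp_biprod hB₁ hB₂ h₁ (fp_free P hP)) (biprod.lift (-t) r) (biprod.desc S.f f)
    ?_ fun φ hφ => univ_of_refine (biprod.desc S.f f) φ fun y hy => ?_
  · simp [ht]
  · have h1 : -(t ≫ biprod.inl ≫ φ) + r ≫ biprod.inr ≫ φ = 0 := by
      have h := hφ
      rw [biprod.lift_eq, Preadditive.add_comp] at h
      simpa using h
    have h2 : y ≫ biprod.fst ≫ S.f + y ≫ biprod.snd ≫ f = 0 := by
      rw [biprod.desc_eq] at hy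
      simpa using hy
    have h3 : (y ≫ biprod.snd) ≫ e ≫ π₃ = 0 := by
      have := congrArg (· ≫ S.g) h2
      simpa [hf] using this
    haveI : Epi (e ≫ π₃) := epi_comp _ _
    obtain ⟨T, q, hq, z, hz⟩ := refine_of_univ r (e ≫ π₃) hr hu _ h3
    have h4 : q ≫ y ≫ biprod.fst = -(z ≫ t) := by
      rw [← cancel_mono S.f]
      have := congrArg (q ≫ ·) h2
      simp only [Preadditive.comp_add, comp_zero, reassoc_of% hz, ← ht] at this
      simpa using eq_neg_of_add_eq_zero_left this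
    refine ⟨T, q, hq, ?_⟩
    have h5 : φ = biprod.fst ≫ biprod.inl ≫ φ + biprod.snd ≫ biprod.inr ≫ φ := by
      rw [← Category.assoc, ← Category.assoc, ← Preadditive.add_comp, biprod.total, Category.id_comp]
    rw [h5]
    simp only [Preadditive.comp_add, reassoc_of% h4, reassoc_of% hz]
    simpa using congrArg (z ≫ ·) h1

end Groth.Agent.FinPresOn
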