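import Groth.Agent.FinPresOn.Colim
import Mathlib.CategoryTheory.Abelian.Refinements

/-!
Kernels of maps between finitely presented modules.
-/

set_option backward.isDefEq.respectTransparency false
set_option backward.isDefEq.respectTransparency.types false
set_option linter.style.haveILetI false
set_option autoImplicit false
set_option maxHeartbeats 1000000

universe v u

namespace Groth.Agent.FinPresOn

open CategoryTheory Limits Opposite

section Abelian

variable {A : Type*} [Category.{v} A] [Abelian A]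

/-- a cokernel universal property gives exactness, up to refinements -/
lemma refine_of_univ {R M X : A} (r : R ⟶ M) (p : M ⟶ X) [Epi p] (w : r ≫ p = 0)
    (h : ∀ {Z : A} (φ : M ⟶ Z), r ≫ φ = 0 → ∃ u, p ≫ u = φ) {T : A} (y : T ⟶ M) (hy : y ≫ p = 0) :
    ∃ (T' : A) (q : T' ⟶ T) (_ : Epi q) (z : T' ⟶ R), q ≫ y = z ≫ r := by
  have hc : IsColimit (CokernelCofork.ofπ (f := r) p w) :=
    CokernelCofork.IsColimit.ofπ _ _ (fun φ hφ => (h φ hφ).choose) (fun φ hφ => (h φ hφ).choose_spec)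
      fun φ hφ u hu => (cancel_epi p).1 (hu.trans (h φ hφ).choose_spec.symm)
  have he : (ShortComplex.mk r p w).Exact := ShortComplex.exact_of_g_is_cokernel _ hc
  exact (ShortComplex.exact_iff_exact_up_to_refinements _).1 he y hy

/-- a map vanishing on the kernel of an epimorphism descends -/
lemma univ_of_refine {M X : A} (p : M ⟶ X) [Epi p] {Z : A} (φ : M ⟶ Z)
    (h : ∀ {T : A} (y : T ⟶ M), y ≫ p = 0 → ∃ (T' : A) (q : T' ⟶ T) (_ : Epi q), q ≫ y ≫ φ = 0) :
    ∃ u, p ≫ u = φ := by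
  obtain ⟨T', q, hq, hz⟩ := h (kernel.ι p) (kernel.condition p)
  rw [← comp_zero (f := q), cancel_epi] at hz
  exact ⟨Abelian.epiDesc p φ hz, Abelian.comp_epiDesc _ _ _⟩

end Abelian

variable {C : Type u} [SmallCategory C] {J : GrothendieckTopology C} {O : Sheaf J CommRingCat.{u}}
variable {B : Set C}

variable (hB₁ : Covers J B)
  (hB₂ : ∀ U ∈ B, CohCx.IsQcObject ((presheafToSheaf J (Type u)).obj (yoneda.obj U)))

include hB₁ hB₂ in
theorem fp_kernel (hker : ∀ (m n : ℕ) (V : Fin m → C) (U : Fin n → C)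
      (φ : (∐ fun j => ModSite.freeOn O (V j)) ⟶ ∐ fun i => ModSite.freeOn O (U i)),
      (∀ j, V j ∈ B) → (∀ i, U i ∈ B) → FP B (kernel φ))
    {F G : ModSite.Mod O} (α : F ⟶ G) (hF : FP B F) (hG : FP B G) : FP B (kernel α) := by
  obtain ⟨m, n, V, U, ψ, π, hV, hU, hπ, w, huniv⟩ := hF.exists_pres
  obtain ⟨m', n', V', U', ψ', π', hV', hU', hπ', w', huniv'⟩ := hG.exists_pres
  haveI := hπ
  haveI := hπ'
  obtain ⟨a, W, e, f, hW, he, hef⟩ := exists_lift hB₁ hB₂ π' U hU (π ≫ α)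
  obtain ⟨b, S, k, ψ₂, hS, hk, hkψ⟩ := exists_lift hB₁ hB₂ e V hV ψ
  haveI := he
  haveI := hk
  obtain ⟨N, T, hT, ⟨i⟩⟩ := exists_iso_free_biprod (O := O) W V' hW hV'
  let Φ := biprod.desc f ψ'
  have hK : FP B (kernel Φ) :=
    (hker N n' T U' (i.hom ≫ Φ) hT hU').of_iso (kernelIsIsoComp i.hom Φ)
  let Kg := kernel (f ≫ π')
  let t : kernel Φ ⟶ Kg := kernel.lift _ (kernel.ι Φ ≫ biprod.fst) (by
    have h1 : kernel.ι Φ ≫ biprod.desc f ψ' ≫ π' = 0 := by rw [← Category.assoc, kernel.condition, zero_comp]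
    rw [biprod.desc_eq] at h1
    simpa [w'] using h1)
  have htι : t ≫ kernel.ι (f ≫ π') = kernel.ι Φ ≫ biprod.fst := kernel.lift_ι _ _ _
  haveI : Epi t := by
    rw [epi_iff_surjective_up_to_refinements]
    intro T y
    obtain ⟨T', q, hq, z, hz⟩ := refine_of_univ ψ' π' w' huniv' (y ≫ kernel.ι (f ≫ π') ≫ f)
      (by simp only [Category.assoc, kernel.condition, comp_zero])
    refine ⟨T', q, hq, kernel.lift Φ (biprod.lift (q ≫ y ≫ kernel.ι (f ≫ π')) (-z))
      (by simp only [Φ, biprod.lift_desc, Category.assoc, Preadditive.neg_comp]; rw [hz, add_neg_cancel]), ?_⟩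
    rw [← cancel_mono (kernel.ι (f ≫ π'))]
    simp [htι]
  have hKg : FP B Kg := by
    refine fp_of_exact hB₁ hB₂ (hker m' n' V' U' ψ' hV' hU').fg hK
      (kernel.lift Φ (kernel.ι ψ' ≫ biprod.inr) (by simp [Φ])) t ?_ fun φ hφ => univ_of_refine t φ fun y hy => ?_
    · rw [← cancel_mono (kernel.ι (f ≫ π'))]
      simp [htι]
    · have h1 : y ≫ kernel.ι Φ ≫ biprod.fst = 0 := by rw [← htι, reassoc_of% hy, zero_comp]
      let z := kernel.lift ψ' (y ≫ kernel.ι Φ ≫ biprod.snd) (by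
        have h2 : y ≫ kernel.ι Φ ≫ Φ = 0 := by rw [kernel.condition, comp_zero]
        simp only [Φ, biprod.desc_eq, Preadditive.comp_add, reassoc_of% h1, zero_comp, zero_add] at h2
        simpa using h2)
      refine ⟨_, 𝟙 _, inferInstance, ?_⟩
      have h3 : y = z ≫ kernel.lift Φ (kernel.ι ψ' ≫ biprod.inr) (by simp [Φ]) := by
        rw [← cancel_mono (kernel.ι Φ)]
        apply biprod.hom_ext <;> simp [z, h1]
      rw [h3, Category.assoc, hφ, comp_zero, comp_zero]
  let t₂ : Kg ⟶ kernel α := kernel.lift α (kernel.ι (f ≫ π') ≫ e ≫ π) (by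
    rw [Category.assoc, Category.assoc, ← hef, kernel.condition])
  have ht₂ : t₂ ≫ kernel.ι α = kernel.ι (f ≫ π') ≫ e ≫ π := kernel.lift_ι _ _ _
  haveI : Epi t₂ := by
    rw [epi_iff_surjective_up_to_refinements]
    intro T y
    obtain ⟨T', q, hq, x, hx⟩ := surjective_up_to_refinements_of_epi (e ≫ π) (y ≫ kernel.ι α)
    refine ⟨T', q, hq, kernel.lift (f ≫ π') x (by
      rw [hef]
      have := congrArg (· ≫ α) hx
      simpa using this.symm), ?_⟩
    rw [← cancel_mono (kernel.ι α)]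
    simpa [ht₂] using hx
  let l₁ : kernel e ⟶ Kg := kernel.lift _ (kernel.ι e) (by rw [hef, kernel.condition_assoc, zero_comp])
  let l₂ : (∐ fun j => ModSite.freeOn O (S j)) ⟶ Kg := kernel.lift _ ψ₂
    (by rw [hef, reassoc_of% hkψ, reassoc_of% w, zero_comp, comp_zero])
  have hR : FG B (kernel e ⊞ ∐ fun j => ModSite.freeOn O (S j)) :=
    fg_sup (hker a n W U e hW hU).fg (fg_free S hS) biprod.inl biprod.inr fun φ h1 h2 =>
      biprod.hom_ext' _ _ (by rw [h1, comp_zero]) (by rw [h2, comp_zero])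
  refine fp_of_exact hB₁ hB₂ hR hKg (biprod.desc l₁ l₂) t₂ ?_ fun φ hφ => univ_of_refine t₂ φ fun y hy => ?_
  · rw [← cancel_mono (kernel.ι α)]
    apply biprod.hom_ext' <;> simp [ht₂, l₁, l₂, reassoc_of% hkψ, w]
  · have h₁ : l₁ ≫ φ = 0 := by
      have := congrArg (biprod.inl ≫ ·) hφ
      simpa using this
    have h₂ : l₂ ≫ φ = 0 := by
      have := congrArg (biprod.inr ≫ ·) hφ
      simpa using this
    obtain ⟨T₁, q, hq, z, hz⟩ := refine_of_univ ψ π w huniv (y ≫ kernel.ι (f ≫ π') ≫ e)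
      (by rw [Category.assoc, Category.assoc, ← ht₂, reassoc_of% hy, zero_comp])
    obtain ⟨T₂, q', hq', x, hx⟩ := surjective_up_to_refinements_of_epi k z
    let d := kernel.lift e (q' ≫ q ≫ y ≫ kernel.ι (f ≫ π') - x ≫ ψ₂) (by
      simp only [Preadditive.sub_comp, Category.assoc, hz, hkψ, reassoc_of% hx, sub_self])
    haveI := hq
    haveI := hq'
    refine ⟨T₂, q' ≫ q, epi_comp _ _, ?_⟩
    have h3 : q' ≫ q ≫ y = d ≫ l₁ + x ≫ l₂ := by
      rw [← cancel_mono (kernel.ι (f ≫ π'))]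
      simp [d, l₁, l₂]
    rw [Category.assoc, reassoc_of% h3]
    simp [h₁, h₂]

end Groth.Agent.FinPresOn
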